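import Cfsg.Agent.H978.OF.GG
import Cfsg.Agent.S0309

/-!
# S4884, own characteristic: the row `²F₄(Q)`: the norm of the Gelfand-Graev character (helper978)

* `cell_eq` : uniqueness of the element of `N` in `U n U`;
* `J27_of_w0` : `U ∩ w0 U w0⁻¹ ≤ ⟨X_2, …, X_7⟩`;
* `gg_norm` : `Q² ≤ [Γ, Γ]`.
-/

set_option autoImplicit false
set_option linter.unusedSectionVars false

open scoped ComplexConjugate commutatorElement

namespace Cfsg.Agent.H978.OF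

open Cfsg Cfsg.Agent.SplitTwo Cfsg.Agent.SplitTwo.ZS Cfsg.Agent.TitsThree.RankTwoZ Cfsg.Agent.KFacts.TwF4
open Cfsg.Agent.KFacts.TwF4.Full Cfsg.Agent.KFacts.TwF4.SylU Cfsg.Agent.KFacts.TwF4.Inv Cfsg.Agent.KFacts.TwF4.Arc
open Cfsg.Agent.SplitTwo.RootSysZ Subgroup Cfsg.Agent.H539.OF Cfsg.Agent.H743.AH.TwF

universe u

variable {F : Type*} [Field F] {σ : F →+* F} {G : Type u} [Group G] {S : Full σ G}

theorem conj_UU {t x : G} (ht : t ∈ S.T) (hx : x ∈ UU S) : t * x * t⁻¹ ∈ UU S := S.T_conj_J ht hx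

theorem conj_UU' {t x : G} (ht : t ∈ S.T) (hx : t * x * t⁻¹ ∈ UU S) : x ∈ UU S := by
  have h := conj_UU (inv_mem ht) hx
  have e : t⁻¹ * (t * x * t⁻¹) * t⁻¹⁻¹ = x := by group
  rwa [e] at h

theorem w0_X {j k : ℤ} (hk : k = j + 8) {x : G} (hx : x ∈ S.XZ j) : w0 S * x * (w0 S)⁻¹ ∈ S.XZ k := by
  rw [hk]
  exact (w0_rtn j x).1 hx

theorem w0_X' {j k : ℤ} (hk : j = k + 8) {x : G} (hx : x ∈ S.XZ j) : w0 S * x * (w0 S)⁻¹ ∈ S.XZ k := by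
  have h3 := (w0_rtn (S := S) j x).1 hx
  have e : j + 8 = k + 16 := by omega
  rwa [e, XZ_add] at h3

theorem w0_J {a b a' b' : ℤ} (ha : a' ≤ a + 8) (hb : b + 8 ≤ b') {x : G} (hx : x ∈ J S.XZ a b) :
    w0 S * x * (w0 S)⁻¹ ∈ J S.XZ a' b' := by
  have : J S.XZ a b ≤ (J S.XZ a' b').comap (MulAut.conj (w0 S)).toMonoidHom := by
    refine J_le fun k h1 h2 y hy => ?_
    exact mem_J (k := k + 8) (w0_X rfl hy) (by omega) (by omega)
  exact this hx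

theorem w0_J' {a b a' b' : ℤ} (ha : a' + 8 ≤ a) (hb : b ≤ b' + 8) {x : G} (hx : x ∈ J S.XZ a b) :
    w0 S * x * (w0 S)⁻¹ ∈ J S.XZ a' b' := by
  have : J S.XZ a b ≤ (J S.XZ a' b').comap (MulAut.conj (w0 S)).toMonoidHom := by
    refine J_le fun k h1 h2 y hy => ?_
    exact mem_J (k := k - 8) (w0_X' (by ring) hy) (by omega) (by omega)
  exact this hx

section BN

variable [Finite F] [Finite G] (hF : ∃ c : Fˣ, c ≠ 1) (hR : S.R.p = 2) {P : Cfsg.BNPair G}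
  (Sp : Cfsg.Agent.FixBN.Split P 2 (J S.XZ 1 8)) (hPS : P.S = {S.n1, S.n2}) (hTN : S.T ≤ P.N)

include hF hR Sp hTN in
/-- **uniqueness in the Bruhat decomposition** -/
theorem cell_eq {n n' a b : G} (hn : n ∈ P.N) (hn' : n' ∈ P.N) (ha : a ∈ UU S) (hb : b ∈ UU S) (h : n' = a * n * b) :
    n' = n := by
  have hfact : Fact (Nat.Prime 2) := ⟨Nat.prime_two⟩
  have h1 : n' ∈ DoubleCoset.doubleCoset n (P.B : Set G) P.B :=
    DoubleCoset.mem_doubleCoset.2 ⟨a, Sp.le ha, b, Sp.le hb, h⟩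
  have h2 := DoubleCoset.doubleCoset_eq_of_mem h1
  have h3 := (Cfsg.Agent.S0309.result P hn hn').1 h2.symm
  have h4 : n⁻¹ * n' ∈ S.T := BN_le S hF hR Sp hTN (Subgroup.mem_inf.2 ⟨h3, P.N.mul_mem (P.N.inv_mem hn) hn'⟩)
  have h5 : n⁻¹ * a * n = (n⁻¹ * n') * b⁻¹ := by rw [h]; group
  have h6 : n⁻¹ * a * n ∈ P.B := by
    rw [h5]
    exact mul_mem h3 (inv_mem (Sp.le hb))
  have h7 : n⁻¹ * a * n ∈ J S.XZ 1 8 := by
    obtain ⟨k, hk⟩ := Sp.isP ⟨a, ha⟩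
    have hk' : a ^ 2 ^ k = 1 := congrArg Subtype.val hk
    refine Sp.mem_of_pow h6 (n := k) ?_
    have e : n⁻¹ * a * n = n⁻¹ * a * n⁻¹⁻¹ := by rw [inv_inv]
    rw [e, conj_pow, hk']
    group
  have h8 : n⁻¹ * n' ∈ J S.XZ 1 8 := by
    have e : n⁻¹ * n' = (n⁻¹ * a * n) * b := by rw [h]; group
    rw [e]
    exact mul_mem h7 hb
  have h9 := S.U_inf_T h4 h8
  exact (inv_mul_eq_one.1 h9).symm

include hPS in
theorem n1_mem : S.n1 ∈ P.N := P.subset (by rw [hPS]; exact Set.mem_insert _ _)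

include hPS in
theorem n2_mem : S.n2 ∈ P.N := P.subset (by rw [hPS]; exact Set.mem_insert_of_mem _ rfl)

include hPS hTN in
theorem w0_mem : w0 S ∈ P.N := by
  have h1 : Rtn S 2 (S.n1 * S.n2) := refl_mul S.n1_refl S.n2_refl
  have h2 : Rtn S 4 ((S.n1 * S.n2) * (S.n1 * S.n2)) := rtn_mul h1 h1
  have h3 : Rtn S 8 (((S.n1 * S.n2) * (S.n1 * S.n2)) * ((S.n1 * S.n2) * (S.n1 * S.n2))) := rtn_mul h2 h2
  have h4 := T_of_rtn (rtn_mul h3 w0_rtn)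
  have h5 : S.n1 * S.n2 ∈ P.N := mul_mem (n1_mem hPS) (n2_mem hPS)
  have h6 := mul_mem (mul_mem h5 h5) (mul_mem h5 h5)
  have h7 := mul_mem (inv_mem h6) (hTN h4)
  rwa [inv_mul_cancel_left] at h7

include hF hR Sp hPS hTN in
/-- **`U ∩ w0 U w0⁻¹ ≤ ⟨X_2, …, X_7⟩`** -/
theorem J27_of_w0 {u : G} (hu : u ∈ UU S) (h : w0 S * u * (w0 S)⁻¹ ∈ UU S) : u ∈ J S.XZ 2 7 := by
  have Z8 := S.zsys8
  have hw := w0_mem hPS hTN
  -- the first coordinate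
  obtain ⟨x, hx, y, hy, rfl⟩ := Z8.split_ll (a := 1) (b := 8) (by norm_num) (by norm_num) hu
  have hx1 : x = 1 := by
    by_contra hx1
    obtain ⟨p, hpdef⟩ : ∃ p, p = w0 S * x * (w0 S)⁻¹ := ⟨_, rfl⟩
    obtain ⟨q, hqdef⟩ : ∃ q, q = w0 S * y * (w0 S)⁻¹ := ⟨_, rfl⟩
    have hp : p ∈ S.XZ 9 := by
      rw [hpdef]
      exact w0_X (by norm_num) hx
    have hp1 : p ≠ 1 := fun h => hx1 (conj_eq_one_iff.1 (hpdef.symm.trans h))
    have hq : q ∈ J S.XZ 10 16 := by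
      rw [hqdef]
      exact w0_J (by norm_num) (by norm_num) hy
    have hpq : p * q ∈ UU S := by
      have e : p * q = w0 S * (x * y) * (w0 S)⁻¹ := by rw [hpdef, hqdef]; group
      rw [e]
      exact h
    obtain ⟨v, hv, v', hv', hm⟩ := S.R.mu ((9 : ℤ) : ZMod (2 * 8)) p hp hp1
    have hX1 : ∀ z : G, z ∈ S.R.X (((9 : ℤ) : ZMod (2 * 8)) + ((8 : ℕ) : ZMod (2 * 8))) → z ∈ S.XZ 1 := fun z hz => hz
    have hv := hX1 v hv
    have hv' := hX1 v' hv'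
    have hmR : Refl S.XZ 26 (v * p * v') := by
      intro j z
      have h1 := (hm (j : ZMod (2 * 8)) z).symm
      show z ∈ S.R.X _ ↔ _ ∈ S.R.X _
      rw [h1]
      have e : (2 : ZMod (2 * 8)) * ((9 : ℤ) : ZMod (2 * 8)) + ((8 : ℕ) : ZMod (2 * 8)) - (j : ZMod (2 * 8)) =
          ((26 - j : ℤ) : ZMod (2 * 8)) := by push_cast; ring
      rw [e]
    have hmN : v * p * v' ∈ P.N := by
      have h1 := hTN (T_of_rtn (refl_mul hmR S.n1_refl))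
      have h2 := mul_mem h1 (inv_mem (n1_mem hPS))
      rwa [mul_inv_cancel_right] at h2
    have hvU : v ∈ UU S := mem_J hv (by norm_num) (by norm_num)
    have hvU' : v' ∈ UU S := mem_J hv' (by norm_num) (by norm_num)
    have hv17 : v' ∈ J S.XZ 17 17 := by
      have : v' ∈ S.XZ (1 + 16) := by rw [XZ_add]; exact hv'
      exact mem_J this (by norm_num) (by norm_num)
    have hq' : v'⁻¹ * q * v' ∈ J S.XZ 10 16 := by
      have h1 := Z8.conj_J (a := 10) (b := 16) (c := 17) (d := 17) (by norm_num) (by norm_num) (by norm_num)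
        (inv_mem hv17) hq
      rwa [inv_inv] at h1
    have h2 : w0 S * (v'⁻¹ * q * v') * (w0 S)⁻¹ ∈ UU S :=
      w0_J' (by norm_num) (by norm_num) hq'
    -- `m q' ∈ U`
    have h3 : (v * p * v') * (v'⁻¹ * q * v') ∈ UU S := by
      have e : (v * p * v') * (v'⁻¹ * q * v') = v * (p * q) * v' := by group
      rw [e]
      exact mul_mem (mul_mem hvU hpq) hvU'
    have h4 := cell_eq hF hR Sp hTN (n := w0 S) (n' := w0 S * (v * p * v')⁻¹)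
      (a := w0 S * (v'⁻¹ * q * v') * (w0 S)⁻¹) (b := ((v * p * v') * (v'⁻¹ * q * v'))⁻¹) hw
      (mul_mem hw (inv_mem hmN)) h2 (inv_mem h3) (by group)
    have h5 : v * p * v' = 1 := inv_eq_one.1 (mul_eq_left.1 h4)
    have h6 : p = v⁻¹ * v'⁻¹ := by
      calc p = v⁻¹ * (v * p * v') * v'⁻¹ := by group
        _ = _ := by rw [h5, mul_one]
    exact hp1 (S.X_inf_opp (i := 1) (h6 ▸ mul_mem (inv_mem hv) (inv_mem hv')) hp)
  subst hx1
  rw [one_mul] at h ⊢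
  -- the last coordinate
  obtain ⟨z, hz, x, hx, rfl⟩ := Z8.split_rr (a := 2) (b := 8) (by norm_num) (by norm_num) hy
  have hx1 : x = 1 := by
    by_contra hx1
    obtain ⟨p, hpdef⟩ : ∃ p, p = w0 S * x * (w0 S)⁻¹ := ⟨_, rfl⟩
    obtain ⟨q, hqdef⟩ : ∃ q, q = w0 S * z * (w0 S)⁻¹ := ⟨_, rfl⟩
    have hp : p ∈ S.XZ 16 := by
      rw [hpdef]
      exact w0_X (by norm_num) hx
    have hp1 : p ≠ 1 := fun h => hx1 (conj_eq_one_iff.1 (hpdef.symm.trans h))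
    have hq : q ∈ J S.XZ 9 15 := by
      rw [hqdef]
      exact w0_J (by norm_num) (by norm_num) hz
    have hpq : q * p ∈ UU S := by
      have e : q * p = w0 S * (z * x) * (w0 S)⁻¹ := by rw [hpdef, hqdef]; group
      rw [e]
      exact h
    obtain ⟨v, hv, v', hv', hm⟩ := S.R.mu ((16 : ℤ) : ZMod (2 * 8)) p hp hp1
    have hX1 : ∀ z : G, z ∈ S.R.X (((16 : ℤ) : ZMod (2 * 8)) + ((8 : ℕ) : ZMod (2 * 8))) → z ∈ S.XZ 8 := fun z hz => hz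
    have hv := hX1 v hv
    have hv' := hX1 v' hv'
    have hmR : Refl S.XZ (8 + 32) (v * p * v') := by
      intro j z
      have h1 := (hm (j : ZMod (2 * 8)) z).symm
      show z ∈ S.R.X _ ↔ _ ∈ S.R.X _
      rw [h1]
      have e : (2 : ZMod (2 * 8)) * ((16 : ℤ) : ZMod (2 * 8)) + ((8 : ℕ) : ZMod (2 * 8)) - (j : ZMod (2 * 8)) =
          ((8 + 32 - j : ℤ) : ZMod (2 * 8)) := by push_cast; ring
      rw [e]
    have hmN : v * p * v' ∈ P.N := by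
      have h0 : Rtn S 16 ((v * p * v') * S.n2) := by
        have h1 := refl_mul hmR S.n2_refl
        intro j y
        have h2 := h1 j y
        have e : j + (8 + 32 - 8) = j + 16 + 16 := by ring
        rwa [e, XZ_add] at h2
      have h1 := hTN (T_of_rtn h0)
      have h2 := mul_mem h1 (inv_mem (n2_mem hPS))
      rwa [mul_inv_cancel_right] at h2
    have hvU : v ∈ UU S := mem_J hv (by norm_num) (by norm_num)
    have hvU' : v' ∈ UU S := mem_J hv' (by norm_num) (by norm_num)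
    have hv8 : v ∈ J S.XZ 8 8 := mem_J hv (by norm_num) (by norm_num)
    have hq' : v * q * v⁻¹ ∈ J S.XZ 9 15 :=
      Z8.conj_J (a := 9) (b := 15) (c := 8) (d := 8) (by norm_num) (by norm_num) (by norm_num) hv8 hq
    have h2 : w0 S * (v * q * v⁻¹) * (w0 S)⁻¹ ∈ UU S :=
      w0_J' (by norm_num) (by norm_num) hq'
    have h3 : (v * q * v⁻¹) * (v * p * v') ∈ UU S := by
      have e : (v * q * v⁻¹) * (v * p * v') = v * (q * p) * v' := by group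
      rw [e]
      exact mul_mem (mul_mem hvU hpq) hvU'
    have h4 := cell_eq hF hR Sp hTN (n := w0 S) (n' := (v * p * v')⁻¹ * w0 S)
      (a := ((v * q * v⁻¹) * (v * p * v'))⁻¹) (b := w0 S * (v * q * v⁻¹) * (w0 S)⁻¹) hw
      (mul_mem (inv_mem hmN) hw) (inv_mem h3) h2 (by
        have e1 := w0_sq S
        calc (v * p * v')⁻¹ * w0 S = (v * p * v')⁻¹ * (v * q * v⁻¹)⁻¹ * (v * q * v⁻¹) * w0 S := by group
          _ = (v * p * v')⁻¹ * (v * q * v⁻¹)⁻¹ * (w0 S * w0 S) * (v * q * v⁻¹) * w0 S := by rw [e1, mul_one]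
          _ = _ := by
            rw [w0_inv]
            group)
    have h5 : v * p * v' = 1 := inv_eq_one.1 (mul_eq_right.1 h4)
    have h6 : p = v⁻¹ * v'⁻¹ := by
      calc p = v⁻¹ * (v * p * v') * v'⁻¹ := by group
        _ = _ := by rw [h5, mul_one]
    exact hp1 (S.X_inf_opp (i := 8) (h6 ▸ mul_mem (inv_mem hv) (inv_mem hv')) hp)
  subst hx1
  rw [mul_one]
  exact J_mono le_rfl (by norm_num) hz

theorem w0_nn (i : Fin 2) : w0 S * nn S i = nn S i * w0 S := by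
  fin_cases i
  · exact w0_n1 S
  · exact w0_n2 S

theorem J27_le_Vr (i : Fin 2) : J S.XZ 2 7 ≤ Vr S i := by
  fin_cases i
  · exact J_mono (by norm_num) (by norm_num)
  · exact J_mono (by norm_num) (by norm_num)

theorem nn_mem_MM (i : Fin 2) : nn S i ∈ MM S i := by
  fin_cases i
  · exact S.LO_le_J S.n1_mem_LO
  · exact S.n2_mem

include hF hR Sp hPS hTN in
theorem aux (i : Fin 2) {t y y₁ : G} (ht : t ∈ S.T) (hy : y ∈ Vr S i) (hy₁ : y₁ ∈ UU S)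
    (h : y = (w0 S * nn S i * t) * y₁ * (w0 S * nn S i * t)⁻¹) : y ∈ J S.XZ 2 7 ∧ y₁ ∈ J S.XZ 2 7 := by
  have h3 : t * y₁ * t⁻¹ ∈ UU S := conj_UU ht hy₁
  have h4 : w0 S * (t * y₁ * t⁻¹) * (w0 S)⁻¹ ∈ UU S := by
    have e : w0 S * (t * y₁ * t⁻¹) * (w0 S)⁻¹ = (nn S i)⁻¹ * y * (nn S i)⁻¹⁻¹ := by
      rw [h, w0_nn]
      group
    rw [e]
    exact Vr_le_U S i (MM_norm i (inv_mem (nn_mem_MM i)) hy)
  have h5 := J27_of_w0 hF hR Sp hPS hTN h3 h4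
  refine ⟨J27_of_w0 hF hR Sp hPS hTN (Vr_le_U S i hy) ?_, ?_⟩
  · have e : w0 S * y * (w0 S)⁻¹ = nn S i * (t * y₁ * t⁻¹) * (nn S i)⁻¹ := by
      have e1 := w0_sq S
      rw [h]
      calc w0 S * (w0 S * nn S i * t * y₁ * (w0 S * nn S i * t)⁻¹) * (w0 S)⁻¹ =
          (w0 S * w0 S) * (nn S i * (t * y₁ * t⁻¹) * (nn S i)⁻¹) * (w0 S * w0 S)⁻¹ := by group
        _ = _ := by rw [e1, inv_one, one_mul, mul_one]
    rw [e]
    exact Vr_le_U S i (MM_norm i (nn_mem_MM i) (J27_le_Vr i h5))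
  · have h6 := S.T_conj_J (inv_mem ht) h5
    have e : t⁻¹ * (t * y₁ * t⁻¹) * t⁻¹⁻¹ = y₁ := by group
    rwa [e] at h6

include hF hR Sp hPS hTN in
theorem cp_w0 (ψ : ↥(UU S) →* ℂˣ) {t : G} (ht : t ∈ S.T) : H148.GG.Cp (UU S) ψ (w0 S * t) := by
  intro u hu hu'
  have h1 : w0 S * u * (w0 S)⁻¹ ∈ UU S := by
    have h2 := conj_UU ht hu'
    have e : t * ((w0 S * t)⁻¹ * u * (w0 S * t)) * t⁻¹ = (w0 S)⁻¹ * u * w0 S := by group
    rw [e, w0_inv] at h2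
    rwa [w0_inv]
  have h2 : u ∈ J S.XZ 2 7 := J27_of_w0 hF hR Sp hPS hTN hu h1
  have h3 : (w0 S * t)⁻¹ * u * (w0 S * t) ∈ J S.XZ 2 7 := by
    have h4 : t * ((w0 S * t)⁻¹ * u * (w0 S * t)) * t⁻¹ ∈ J S.XZ 2 7 := by
      refine J27_of_w0 hF hR Sp hPS hTN (conj_UU ht hu') ?_
      have e : w0 S * (t * ((w0 S * t)⁻¹ * u * (w0 S * t)) * t⁻¹) * (w0 S)⁻¹ = u := by group
      rw [e]
      exact hu
    have h6 := S.T_conj_J (inv_mem ht) h4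
    have e : t⁻¹ * (t * ((w0 S * t)⁻¹ * u * (w0 S * t)) * t⁻¹) * t⁻¹⁻¹ = (w0 S * t)⁻¹ * u * (w0 S * t) := by group
    rwa [e] at h6
  rw [one_J27 hF ψ (u := ⟨u, hu⟩) h2, one_J27 hF ψ (u := ⟨_, hu'⟩) h3]

theorem w0_nn_cent (i : Fin 2) {t : G} (ht : t ∈ S.Tk (kk i)) {x : G} (hx : x ∈ S.XZ (kk i)) :
    (w0 S * nn S i * t) * x * (w0 S * nn S i * t)⁻¹ = x := by
  have h1 := S.Tk_comm ht hx
  have e : (w0 S * nn S i * t) * x * (w0 S * nn S i * t)⁻¹ = w0 S * (nn S i * x * (nn S i)⁻¹) * (w0 S)⁻¹ := by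
    calc (w0 S * nn S i * t) * x * (w0 S * nn S i * t)⁻¹ = w0 S * (nn S i * (t * x * t⁻¹) * (nn S i)⁻¹) * (w0 S)⁻¹ := by
          group
      _ = _ := by rw [h1, mul_inv_cancel_right]
  rw [e]
  fin_cases i
  · obtain ⟨s, rfl⟩ := S.X1 hx
    show w0 S * (S.n1 * S.o 0 s * S.n1⁻¹) * (w0 S)⁻¹ = S.o 0 s
    rw [S.n1_o, w0_o]
    rfl
  · obtain ⟨p, s, rfl⟩ := S.X8 hx
    show w0 S * (S.n2 * S.e 4 p s * S.n2⁻¹) * (w0 S)⁻¹ = S.e 4 p s
    rw [S.n2_e, w0_e]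
    rfl

/-- `U = X_{kk i} Vr i` -/
theorem U_split (i : Fin 2) {u : G} (hu : u ∈ UU S) : ∃ r ∈ S.XZ (kk i), ∃ y ∈ Vr S i, u = r * y := by
  have Z8 := S.zsys8
  fin_cases i
  · obtain ⟨x, hx, y, hy, e⟩ := Z8.split_ll (a := 1) (b := 8) (by norm_num) (by norm_num) hu
    exact ⟨x, hx, y, hy, e⟩
  · obtain ⟨y, hy, x, hx, e⟩ := Z8.split_rr (a := 1) (b := 8) (by norm_num) (by norm_num) hu
    refine ⟨x, hx, x⁻¹ * y * x⁻¹⁻¹, ?_, by rw [e]; group⟩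
    exact MM_norm 1 (inv_mem (U_le_MM 1 (mem_J hx (by norm_num) (by norm_num)))) hy

include hF hR Sp hPS hTN in
theorem cp_nn (ψ : ↥(UU S) →* ℂˣ) (i : Fin 2) {t : G} (ht : t ∈ S.Tk (kk i)) :
    H148.GG.Cp (UU S) ψ (w0 S * nn S i * t) := by
  intro u hu hu'
  obtain ⟨r, hr, y, hy, rfl⟩ := U_split i hu
  obtain ⟨x, hx⟩ : ∃ x, x = w0 S * nn S i * t := ⟨_, rfl⟩
  have hrU : r ∈ UU S := Xs_le_U S i hr
  have hc : x⁻¹ * r * x = r := by
    have h1 := w0_nn_cent i ht hr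
    rw [← hx] at h1
    calc x⁻¹ * r * x = x⁻¹ * (x * r * x⁻¹) * x := by rw [h1]
      _ = r := by group
  have h1 : x⁻¹ * y * x ∈ UU S := by
    have h2 := mul_mem (inv_mem hrU) hu'
    have e : r⁻¹ * ((w0 S * nn S i * t)⁻¹ * (r * y) * (w0 S * nn S i * t)) = x⁻¹ * y * x := by
      rw [← hx]
      calc r⁻¹ * (x⁻¹ * (r * y) * x) = r⁻¹ * (x⁻¹ * r * x) * (x⁻¹ * y * x) := by group
        _ = _ := by rw [hc, inv_mul_cancel, one_mul]
    rwa [e] at h2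
  obtain ⟨h2, h3⟩ := aux hF hR Sp hPS hTN i ht.1 hy h1 (by rw [← hx]; group)
  have e1 : (⟨r * y, hu⟩ : ↥(UU S)) = ⟨r, hrU⟩ * ⟨y, Vr_le_U S i hy⟩ := rfl
  have e2 : (⟨(w0 S * nn S i * t)⁻¹ * (r * y) * (w0 S * nn S i * t), hu'⟩ : ↥(UU S)) =
      ⟨r, hrU⟩ * ⟨x⁻¹ * y * x, h1⟩ := by
    apply Subtype.ext
    show (w0 S * nn S i * t)⁻¹ * (r * y) * (w0 S * nn S i * t) = r * (x⁻¹ * y * x)
    rw [← hx]
    calc x⁻¹ * (r * y) * x = (x⁻¹ * r * x) * (x⁻¹ * y * x) := by group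
      _ = _ := by rw [hc]
  rw [e1, e2, map_mul, map_mul, one_J27 hF ψ (u := ⟨y, Vr_le_U S i hy⟩) h2, one_J27 hF ψ (u := ⟨_, h1⟩) h3]

theorem cp_one (ψ : ↥(UU S) →* ℂˣ) : H148.GG.Cp (UU S) ψ 1 := by
  intro u hu hu'
  congr 1
  apply Subtype.ext
  show u = 1⁻¹ * u * 1
  group

/-! ### the double cosets -/

variable (S) in
/-- the torus of the node `i` -/
def tt (i : Fin 2) (c : Fˣ) : G := ![S.h c c⁻¹, S.h 1 c] i

variable (S) in
/-- representatives of the compatible double cosets -/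
def rep : (Fˣ × Fˣ) ⊕ (Fin 2 × Fˣ) ⊕ Unit → G
  | .inl x => w0 S * S.h x.1 x.2
  | .inr (.inl x) => w0 S * nn S x.1 * tt S x.1 x.2
  | .inr (.inr _) => 1

/-- the image of `X_2` -/
def ty : (Fˣ × Fˣ) ⊕ (Fin 2 × Fˣ) ⊕ Unit → ℤ
  | .inl _ => 10
  | .inr (.inl x) => ![0, 14] x.1
  | .inr (.inr _) => 2

theorem tt_mem (i : Fin 2) (c : Fˣ) : tt S i c ∈ S.Tk (kk i) := by
  fin_cases i
  · exact S.mem_Tk_one.2 ⟨c, rfl⟩
  · exact (AutTau.mem_Tk_even S 4 1 c).2 (by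
      show chE σ 4 1 c = 1
      rw [chE_four, inv_one])

theorem tt_inj (i : Fin 2) {c d : Fˣ} (h : tt S i c = tt S i d) : c = d := by
  fin_cases i
  · exact (S.h_inj _ _ _ _ h).1
  · exact (S.h_inj _ _ _ _ h).2

theorem ty_mem (k : (Fˣ × Fˣ) ⊕ (Fin 2 × Fˣ) ⊕ Unit) {x : G} (hx : x ∈ S.XZ 2) :
    rep S k * x * (rep S k)⁻¹ ∈ S.XZ (ty k) := by
  rcases k with ⟨c, d⟩ | ⟨i, c⟩ | _
  · show (w0 S * S.h c d) * x * (w0 S * S.h c d)⁻¹ ∈ S.XZ 10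
    have e : (w0 S * S.h c d) * x * (w0 S * S.h c d)⁻¹ = w0 S * (S.h c d * x * (S.h c d)⁻¹) * (w0 S)⁻¹ := by group
    rw [e]
    exact w0_X (by norm_num) (S.T_conj (S.mem_T.2 ⟨c, d, rfl⟩) 2 hx)
  · have e : (w0 S * nn S i * tt S i c) * x * (w0 S * nn S i * tt S i c)⁻¹ =
        w0 S * (nn S i * (tt S i c * x * (tt S i c)⁻¹) * (nn S i)⁻¹) * (w0 S)⁻¹ := by group
    show (w0 S * nn S i * tt S i c) * x * (w0 S * nn S i * tt S i c)⁻¹ ∈ S.XZ (![0, 14] i)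
    rw [e]
    have h1 := S.T_conj (tt_mem (S := S) i c).1 2 hx
    fin_cases i
    · refine w0_X' (j := 8) (by norm_num) ?_
      exact S.n1_refl.mem' h1 (by norm_num)
    · refine w0_X (j := 6) (by norm_num) ?_
      exact S.n2_refl.mem' h1 (by norm_num)
  · show (1 : G) * x * 1⁻¹ ∈ S.XZ 2
    rwa [inv_one, mul_one, one_mul]

theorem ty_eq {k l : (Fˣ × Fˣ) ⊕ (Fin 2 × Fˣ) ⊕ Unit} (h : rep S k = rep S l) :
    ((ty k : ℤ) : ZMod (2 * 8)) = ((ty l : ℤ) : ZMod (2 * 8)) := by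
  by_contra hne
  have hx : S.e 1 1 0 ∈ S.XZ 2 := S.mX2 1 0
  have hx1 : S.e 1 (1 : F) 0 ≠ 1 := fun h => one_ne_zero (S.e_eq_one h).1
  have h1 := ty_mem k hx
  have h2 := ty_mem l hx
  rw [← h] at h2
  exact hx1 (conj_eq_one_iff.1 (S.X_inf hne h1 h2))

theorem rep_inj : Function.Injective (rep S) := by
  intro k l h
  have ht := ty_eq h
  rcases k with ⟨c, d⟩ | ⟨i, c⟩ | _ <;> rcases l with ⟨c', d'⟩ | ⟨i', c'⟩ | _
  · have h1 : S.h c d = S.h c' d' := mul_left_cancel h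
    obtain ⟨rfl, rfl⟩ := S.h_inj _ _ _ _ h1
    rfl
  · exfalso
    revert ht
    show ¬ ((10 : ℤ) : ZMod (2 * 8)) = ((![0, 14] i' : ℤ) : ZMod (2 * 8))
    fin_cases i' <;> decide
  · exfalso
    revert ht
    show ¬ ((10 : ℤ) : ZMod (2 * 8)) = ((2 : ℤ) : ZMod (2 * 8))
    decide
  · exfalso
    revert ht
    show ¬ ((![0, 14] i : ℤ) : ZMod (2 * 8)) = ((10 : ℤ) : ZMod (2 * 8))
    fin_cases i <;> decide
  · have hii : i = i' := by
      revert ht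
      show ((![0, 14] i : ℤ) : ZMod (2 * 8)) = ((![0, 14] i' : ℤ) : ZMod (2 * 8)) → i = i'
      fin_cases i <;> fin_cases i' <;> decide
    subst hii
    have h1 : tt S i c = tt S i c' := mul_left_cancel h
    rw [tt_inj i h1]
  · exfalso
    revert ht
    show ¬ ((![0, 14] i : ℤ) : ZMod (2 * 8)) = ((2 : ℤ) : ZMod (2 * 8))
    fin_cases i <;> decide
  · exfalso
    revert ht
    show ¬ ((2 : ℤ) : ZMod (2 * 8)) = ((10 : ℤ) : ZMod (2 * 8))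
    decide
  · exfalso
    revert ht
    show ¬ ((2 : ℤ) : ZMod (2 * 8)) = ((![0, 14] i' : ℤ) : ZMod (2 * 8))
    fin_cases i' <;> decide
  · rfl

include hF hR Sp hPS hTN in
theorem rep_cp (ψ : ↥(UU S) →* ℂˣ) (k : (Fˣ × Fˣ) ⊕ (Fin 2 × Fˣ) ⊕ Unit) : H148.GG.Cp (UU S) ψ (rep S k) := by
  rcases k with ⟨c, d⟩ | ⟨i, c⟩ | _
  · exact cp_w0 hF hR Sp hPS hTN ψ (S.mem_T.2 ⟨c, d, rfl⟩)
  · exact cp_nn hF hR Sp hPS hTN ψ i (tt_mem i c)
  · exact cp_one ψ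

include hPS hTN in
theorem rep_mem (k : (Fˣ × Fˣ) ⊕ (Fin 2 × Fˣ) ⊕ Unit) : rep S k ∈ P.N := by
  have hw := w0_mem hPS hTN
  rcases k with ⟨c, d⟩ | ⟨i, c⟩ | _
  · exact mul_mem hw (hTN (S.mem_T.2 ⟨c, d, rfl⟩))
  · refine mul_mem (mul_mem hw ?_) (hTN (tt_mem i c).1)
    fin_cases i
    · exact n1_mem hPS
    · exact n2_mem hPS
  · exact one_mem _

end BN

/-- **the norm of the Gelfand-Graev characters** -/
theorem gg_norm' [Finite F] [Fintype G] [Fintype ↥(UU S)] (hF : ∃ c : Fˣ, c ≠ 1) (hR : S.R.p = 2) {P : Cfsg.BNPair G}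
    (Sp : Cfsg.Agent.FixBN.Split P 2 (J S.XZ 1 8)) (hPS : P.S = {S.n1, S.n2}) (hTN : S.T ≤ P.N)
    (ψ : ↥(UU S) →* ℂˣ) : ∃ M : ℕ, classInner (indFun (UU S) fun u : ↥(UU S) => (ψ u : ℂ))
      (indFun (UU S) fun u : ↥(UU S) => (ψ u : ℂ)) = M ∧ Nat.card F ^ 2 ≤ M := by
  classical
  have hψ : IsCharacter ↥(UU S) (fun u => (ψ u : ℂ)) := Cfsg.Agent.Characters.Linear.isCharacter_hom ψ
  have hΓ : IsCharacter G (indFun (UU S) fun u : ↥(UU S) => (ψ u : ℂ)) := Cfsg.Agent.Characters.Brauer.isCharacter_indFun _ hψ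
  obtain ⟨M, hM⟩ := Cfsg.Agent.Characters.Core.classInner_isNat hΓ hΓ
  refine ⟨M, hM, ?_⟩
  have := Fintype.ofFinite F
  have h1 := H148.GG.le_classInner_self (UU S) ψ (rep S) (rep_cp hF hR Sp hPS hTN ψ) (fun k l h => by
    obtain ⟨a, ha, b, hb, e⟩ := h
    exact rep_inj (cell_eq hF hR Sp hTN (rep_mem hPS hTN k) (rep_mem hPS hTN l) ha hb e).symm)
  rw [hM, Complex.natCast_re] at h1
  have h2 : Fintype.card ((Fˣ × Fˣ) ⊕ (Fin 2 × Fˣ) ⊕ Unit) = Nat.card F ^ 2 := by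
    have h3 : Fintype.card Fˣ = Nat.card F - 1 := by rw [Fintype.card_units, Nat.card_eq_fintype_card]
    have h4 : 0 < Nat.card F := Nat.card_pos
    obtain ⟨q, hq⟩ : ∃ q, Nat.card F = q + 1 := ⟨Nat.card F - 1, by omega⟩
    rw [Fintype.card_sum, Fintype.card_sum, Fintype.card_prod, Fintype.card_prod, h3, hq, Fintype.card_fin,
      Fintype.card_unit]
    simp only [Nat.add_sub_cancel]
    ring
  rw [h2] at h1
  exact_mod_cast h1

/-- **the norm of the Gelfand-Graev character** -/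
theorem gg_norm [Finite F] [Fintype G] [Fintype ↥(UU S)] (hF : ∃ c : Fˣ, c ≠ 1) (hR : S.R.p = 2) {P : Cfsg.BNPair G}
    (Sp : Cfsg.Agent.FixBN.Split P 2 (J S.XZ 1 8)) (hPS : P.S = {S.n1, S.n2}) (hTN : S.T ≤ P.N)
    (lam : Fin 2 → (↥(UU S) →* ℂˣ)) :
    ∃ M : ℕ, classInner (indFun (UU S) fun u : ↥(UU S) => (H40.OC.psi lam Finset.univ u : ℂ))
      (indFun (UU S) fun u : ↥(UU S) => (H40.OC.psi lam Finset.univ u : ℂ)) = M ∧ Nat.card F ^ 2 ≤ M :=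
  gg_norm' hF hR Sp hPS hTN _

end Cfsg.Agent.H978.OF
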