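import Cfsg.Agent.H978.OF.Tor
import Cfsg.Agent.S0139

/-!
# S4884, own characteristic: the row `²F₄(Q)`: Gelfand-Graev multiplicities (helper978)

* `gg_one` : `⟨χ_U, ψ⟩ ≤ 1` for irreducible characters `χ` of `G`, `ψ` the nondegenerate linear character of `U`;
* `gg_par` : `⟨μ_U, lam i⟩ ≤ 1` for cuspidal characters `μ` of `Par i`.
-/

set_option autoImplicit false
set_option linter.unusedSectionVars false

open scoped ComplexConjugate commutatorElement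

namespace Cfsg.Agent.H978.OF

open Cfsg Cfsg.Agent.SplitTwo Cfsg.Agent.SplitTwo.ZS Cfsg.Agent.TitsThree.RankTwoZ Cfsg.Agent.KFacts.TwF4
open Cfsg.Agent.KFacts.TwF4.Full Cfsg.Agent.KFacts.TwF4.SylU Cfsg.Agent.KFacts.TwF4.Inv Cfsg.Agent.KFacts.TwF4.Arc
open Cfsg.Agent.SplitTwo.RootSysZ Subgroup Cfsg.Agent.H539.OF

universe u

/-! ### Gelfand's trick -/

/-- Gelfand's trick with the inversion -/
theorem gelf {K A : Type*} [Group K] [Fintype K] [Group A] [Fintype A] (i : A →* K) (ψ : A →* ℂˣ)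
    (h2 : ∀ a, ψ a * ψ a = 1)
    (h : ∀ g : K, ∃ b b' : A, ∃ n : K, g = i b * n * i b' ∧
      (n * n = 1 ∨ ∃ a a' : A, i a * n = n * i a' ∧ ψ a ≠ ψ a'))
    {χ : K → ℂ} (hχ : IsIrrCharacter K χ) :
    classInner (χ ∘ i) (fun a => (ψ a : ℂ)) = 0 ∨ classInner (χ ∘ i) (fun a => (ψ a : ℂ)) = 1 := by
  refine H466.T3.Gelfand.mult_le_one i ψ (fun g => g⁻¹) (Equiv.inv A) (fun x y => mul_inv_rev x y)
    (fun a => (map_inv i a).symm) (fun a => ?_) (fun g => ?_) hχ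
  · show ψ a⁻¹ = ψ a
    rw [map_inv]
    exact inv_eq_of_mul_eq_one_left (h2 a)
  · obtain ⟨b, b', n, rfl, hn | ⟨a, a', h3, h4⟩⟩ := h g
    · left
      refine ⟨b'⁻¹ * b⁻¹, b'⁻¹ * b⁻¹, ?_, h2 _⟩
      have hn' : n⁻¹ = n := inv_eq_of_mul_eq_one_left hn
      simp only [map_mul, map_inv, mul_inv_rev, hn']
      group
    · right
      refine ⟨b * a * b⁻¹, b'⁻¹ * a' * b', ?_, ?_⟩
      · simp only [map_mul, map_inv]
        calc i b * i a * (i b)⁻¹ * (i b * n * i b') = i b * (i a * n) * i b' := by group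
          _ = _ := by rw [h3]; group
      · rw [map_mul, map_mul, map_mul, map_mul, map_inv, map_inv, mul_comm (ψ b), mul_assoc, mul_inv_cancel, mul_one,
          mul_comm (ψ b')⁻¹, mul_assoc, inv_mul_cancel, mul_one]
        exact h4

/-- irreducible restrictions -/
theorem irr_res {K M : Type*} [Group K] [Finite K] [Group M] (f : M →* K) {χ : K → ℂ} (hχ : IsIrrCharacter K χ)
    (Z V : Subgroup K) (hV : ∀ g v : K, v ∈ V → χ (g * v) = χ g)
    (hZ : ∀ z ∈ Z, ∀ g : K, g * z * g⁻¹ * z⁻¹ ∈ V)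
    (h : ∀ g : K, ∃ m : M, ∃ z ∈ Z, g = f m * z) : IsIrrCharacter M (χ ∘ f) := by
  obtain ⟨n, ρ, hρ, rfl⟩ := hχ
  have hV' : ∀ v ∈ V, ρ v = 1 := by
    intro v hv
    have h1 := hV 1 v hv
    rw [one_mul, Representation.char_one] at h1
    exact (Cfsg.Agent.S0139.result ρ v).1 h1
  have hZ' : ∀ z ∈ Z, ∃ c : ℂ, ρ z = c • (1 : Module.End ℂ (Fin n → ℂ)) := by
    intro z hz
    refine Cfsg.Agent.Characters.Central.exists_smul_of_comm ρ hρ (ρ z) fun g => ?_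
    have h1 := hV' _ (hZ z hz g)
    have h2 : ρ (g * z) = ρ (g * z * g⁻¹ * z⁻¹) * ρ (z * g) := by
      rw [← map_mul]
      congr 1
      group
    rw [← map_mul, ← map_mul, h2, h1, one_mul]
  refine ⟨n, ρ.comp f, ?_, rfl⟩
  have hnt : Nontrivial (Subrepresentation (ρ.comp f)) := by
    obtain ⟨a, b, hab⟩ := hρ.toNontrivial
    refine ⟨⟨a.toSubmodule, fun g v hv => a.apply_mem_toSubmodule (f g) hv⟩,
      ⟨b.toSubmodule, fun g v hv => b.apply_mem_toSubmodule (f g) hv⟩, fun h => hab ?_⟩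
    apply Subrepresentation.toSubmodule_injective
    exact congrArg (Subrepresentation.toSubmodule (ρ := ρ.comp f)) h
  refine ⟨fun a => ?_⟩
  have key : ∀ (g : K) ⦃v : Fin n → ℂ⦄, v ∈ a.toSubmodule → ρ g v ∈ a.toSubmodule := by
    intro g v hv
    obtain ⟨m, z, hz, rfl⟩ := h g
    obtain ⟨c, hc⟩ := hZ' z hz
    have h1 : ρ (f m * z) v = ρ (f m) (c • v) := by
      rw [map_mul, hc]
      rfl
    rw [h1]
    exact a.apply_mem_toSubmodule m (a.toSubmodule.smul_mem c hv)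
  rcases hρ.eq_bot_or_eq_top ⟨a.toSubmodule, key⟩ with h | h
  · left
    apply Subrepresentation.toSubmodule_injective
    exact congrArg (Subrepresentation.toSubmodule (ρ := ρ)) h
  · right
    apply Subrepresentation.toSubmodule_injective
    exact congrArg (Subrepresentation.toSubmodule (ρ := ρ)) h

variable {F : Type*} [Field F] {σ : F →+* F} {G : Type u} [Group G] {S : Full σ G}

/-! ### the linear characters -/

theorem psi_univ (lam : Fin 2 → (↥(UU S) →* ℂˣ)) (u : ↥(UU S)) :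
    H40.OC.psi lam Finset.univ u = lam 0 u * lam 1 u := by
  unfold H40.OC.psi
  rw [MonoidHom.finsetProd_apply, Fin.prod_univ_two]

theorem nz_lam {lam : Fin 2 → (↥(UU S) →* ℂˣ)} (hl : H40.OC.Lam (UU S) (DD S) lam) (i : Fin 2) : Nz (lam i) i := by
  have h1 := hl.ne i
  obtain ⟨u, hu⟩ : ∃ u, lam i u ≠ 1 := by
    by_contra hcon
    push Not at hcon
    exact h1 (MonoidHom.ext hcon)
  have Z8 := S.zsys8
  obtain rfl | rfl : i = 0 ∨ i = 1 := by fin_cases i <;> simp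
  · obtain ⟨x, hx, y, hy, e⟩ := Z8.split_ll (a := 1) (b := 8) (by norm_num) (by norm_num) u.2
    have hxU : x ∈ UU S := mem_J hx (by norm_num) (by norm_num)
    have hyU : y ∈ UU S := J_mono (by norm_num) le_rfl hy
    refine ⟨⟨x, hxU⟩, hx, ?_⟩
    have e1 : u = ⟨x, hxU⟩ * ⟨y, hyU⟩ := Subtype.ext e
    rw [e1, map_mul, hl.one 0 ⟨y, hyU⟩ hy, mul_one] at hu
    exact hu
  · obtain ⟨y, hy, x, hx, e⟩ := Z8.split_rr (a := 1) (b := 8) (by norm_num) (by norm_num) u.2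
    have hxU : x ∈ UU S := mem_J hx (by norm_num) (by norm_num)
    have hyU : y ∈ UU S := J_mono le_rfl (by norm_num) hy
    refine ⟨⟨x, hxU⟩, hx, ?_⟩
    have e1 : u = ⟨y, hyU⟩ * ⟨x, hxU⟩ := Subtype.ext e
    rw [e1, map_mul, hl.one 1 ⟨y, hyU⟩ (Subgroup.mem_sup_left hy), one_mul] at hu
    exact hu

theorem nz_psi {lam : Fin 2 → (↥(UU S) →* ℂˣ)} (hl : H40.OC.Lam (UU S) (DD S) lam) (i : Fin 2) :
    Nz (H40.OC.psi lam Finset.univ) i := by
  obtain ⟨b, hb, hne⟩ := nz_lam hl i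
  refine ⟨b, hb, ?_⟩
  rw [psi_univ]
  fin_cases i
  · have h1 : lam 1 b = 1 := hl.one 1 b (Vr_le_DD S 1 (Xs_le_Vr S (i := 0) (j := 1) (by decide) hb))
    rw [h1, mul_one]
    exact hne
  · have h1 : lam 0 b = 1 := hl.one 0 b (Vr_le_DD S 0 (Xs_le_Vr S (i := 1) (j := 0) (by decide) hb))
    rw [h1, one_mul]
    exact hne

/-! ### the subgroups `⟨X_{kk i}, X_{ko i}⟩ Vr i` -/

variable (S) in
/-- `⟨X_{kk i}, X_{ko i}⟩ Vr i` -/
def MM (i : Fin 2) : Subgroup G := ![J S.XZ 1 9, J S.XZ 0 8] i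

theorem U_le_MM (i : Fin 2) : UU S ≤ MM S i := by
  fin_cases i
  · exact J_mono (by norm_num) (by norm_num)
  · exact J_mono (by norm_num) (by norm_num)

theorem MM_le_Par (i : Fin 2) : MM S i ≤ Par S i := by
  fin_cases i
  · exact le_sup_right
  · exact le_sup_right

theorem MM_norm (i : Fin 2) {y v : G} (hy : y ∈ MM S i) (hv : v ∈ Vr S i) : y * v * y⁻¹ ∈ Vr S i := by
  have Z8 := S.zsys8
  fin_cases i
  · exact Z8.conj_J (a := 2) (b := 8) (c := 1) (d := 9) (by norm_num) (by norm_num) (by norm_num) hy hv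
  · exact Z8.conj_J (a := 1) (b := 7) (c := 0) (d := 8) (by norm_num) (by norm_num) (by norm_num) hy hv

theorem T_norm (i : Fin 2) {t v : G} (ht : t ∈ S.T) (hv : v ∈ Vr S i) : t * v * t⁻¹ ∈ Vr S i := by
  fin_cases i
  · exact S.T_conj_J ht hv
  · exact S.T_conj_J ht hv

theorem T_MM {t x : G} (i : Fin 2) (ht : t ∈ S.T) (hx : x ∈ MM S i) : t * x * t⁻¹ ∈ MM S i := by
  fin_cases i
  · exact S.T_conj_J ht hx
  · exact S.T_conj_J ht hx

theorem Par_eq (i : Fin 2) : Par S i = S.T ⊔ MM S i := by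
  fin_cases i <;> rfl

theorem Par_norm (i : Fin 2) {y v : G} (hy : y ∈ Par S i) (hv : v ∈ Vr S i) : y * v * y⁻¹ ∈ Vr S i := by
  rw [Par_eq] at hy
  obtain ⟨t, ht, m, hm, rfl⟩ := mem_sup_of_norm (A := S.T) (B := MM S i) (fun a ha b hb => T_MM i ha hb) hy
  have e : t * m * v * (t * m)⁻¹ = t * (m * v * m⁻¹) * t⁻¹ := by group
  rw [e]
  exact T_norm i ht (MM_norm i hm hv)

/-- the generators of `MM i` -/
theorem MM_le {K : Subgroup G} (i : Fin 2) (h1 : S.XZ (kk i) ≤ K) (h2 : S.XZ (ko i) ≤ K) (h3 : Vr S i ≤ K) :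
    MM S i ≤ K := by
  fin_cases i
  · refine J_le fun k hk1 hk2 => ?_
    obtain rfl | rfl | h4 : k = 1 ∨ k = 9 ∨ (2 ≤ k ∧ k ≤ 8) := by omega
    · exact h1
    · exact h2
    · exact (X_le_J h4.1 h4.2).trans h3
  · refine J_le fun k hk1 hk2 => ?_
    obtain rfl | rfl | h4 : k = 0 ∨ k = 8 ∨ (1 ≤ k ∧ k ≤ 7) := by omega
    · exact h2
    · exact h1
    · exact (X_le_J h4.1 h4.2).trans h3

/-- the centraliser of the root group in the torus -/
theorem Tk_opp (i : Fin 2) {t : G} (ht : t ∈ S.Tk (kk i)) {x : G} (hx : x ∈ S.XZ (ko i)) : t * x = x * t := by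
  fin_cases i
  · obtain ⟨c, rfl⟩ := S.mem_Tk_one.1 ht
    have ht9 : S.h c c⁻¹ ∈ S.Tk 9 := by
      have := (AutTau.mem_Tk_odd S 4 c c⁻¹).2 (by
        show chE σ 4 c c⁻¹ * chE σ 5 c c⁻¹ = 1
        rw [chE_four, chE_five, inv_inv, inv_mul_cancel])
      norm_num at this
      exact this
    exact S.Tk_comm ht9 hx
  · obtain ⟨c, d, rfl⟩ := S.mem_T.1 ht.1
    have h1 := S.Tk_comm ht (k := 8) (S.mX8 1 0)
    have h2 := S.h_e c d 4 1 0
    rw [h1, mul_inv_cancel_right, mul_one, chE_four] at h2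
    have h3 : c = 1 := inv_eq_one.1 (Units.ext (S.injE 4 _ _ _ _ h2).1.symm)
    subst h3
    exact S.Tk_comm (S.mem_Tk_zero.2 ⟨d, rfl⟩) hx

/-- `[g, z] ∈ Vr i` -/
theorem Tk_comm_mem (i : Fin 2) {z g : G} (hz : z ∈ S.Tk (kk i)) (hg : g ∈ Par S i) : g * z * g⁻¹ * z⁻¹ ∈ Vr S i := by
  let K : Subgroup G :=
    { carrier := {g | g ∈ Par S i ∧ g * z * g⁻¹ * z⁻¹ ∈ Vr S i}
      one_mem' := ⟨one_mem _, by
        rw [one_mul, inv_one, mul_one, mul_inv_cancel]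
        exact one_mem _⟩
      mul_mem' := by
        rintro a b ⟨ha, ha'⟩ ⟨hb, hb'⟩
        refine ⟨mul_mem ha hb, ?_⟩
        have e : a * b * z * (a * b)⁻¹ * z⁻¹ = (a * (b * z * b⁻¹ * z⁻¹) * a⁻¹) * (a * z * a⁻¹ * z⁻¹) := by group
        rw [e]
        exact mul_mem (Par_norm i ha hb') ha'
      inv_mem' := by
        rintro a ⟨ha, ha'⟩
        refine ⟨inv_mem ha, ?_⟩
        have e : a⁻¹ * z * a⁻¹⁻¹ * z⁻¹ = a⁻¹ * (a * z * a⁻¹ * z⁻¹)⁻¹ * a⁻¹⁻¹ := by group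
        rw [e]
        exact Par_norm i (inv_mem ha) (inv_mem ha') }
  have hc : ∀ x ∈ Par S i, z * x = x * z → x ∈ K := by
    intro x hx h
    refine ⟨hx, ?_⟩
    rw [← h, mul_inv_cancel_right, mul_inv_cancel]
    exact one_mem _
  have hK : Par S i ≤ K := by
    have h1 : S.T ≤ K := fun t ht => hc t (T_le_Par S i ht) (S.T_comm hz.1 ht)
    have h2 : MM S i ≤ K := by
      refine MM_le i (fun x hx => hc x (Xs_le_Par S i hx) (S.Tk_comm hz hx))
        (fun x hx => hc x (Xo_le_Par S i hx) (Tk_opp i hz hx)) (fun v hv => ⟨Vr_le_Par S i hv, ?_⟩)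
      have e : v * z * v⁻¹ * z⁻¹ = v * (z * v⁻¹ * z⁻¹) := by group
      rw [e]
      exact mul_mem hv (T_norm i hz.1 (inv_mem hv))
    rw [Par_eq]
    exact sup_le h1 h2
  exact (hK hg).2

section fin

variable [Finite F]

/-- `T = (T ∩ MM i) Tk (kk i)` -/
theorem T_split (i : Fin 2) {t : G} (ht : t ∈ S.T) : ∃ m ∈ MM S i, ∃ z ∈ S.Tk (kk i), t = m * z := by
  obtain ⟨c, d, rfl⟩ := S.mem_T.1 ht
  fin_cases i
  · have hs : Function.Surjective (fun x : Fˣ => x * x) := by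
      refine Finite.surjective_of_injective fun x y (h : x * x = y * y) => ?_
      have h1 : (x / y) * (x / y) = 1 := by rw [div_mul_div_comm, h, div_self']
      exact div_eq_one.1 (unit_sq S h1)
    obtain ⟨e, he⟩ := hs (c * d)
    have he : e * e = c * d := he
    refine ⟨S.h e e, S.LO_le_J (S.h_mem_LO e), S.h (c / e) (c / e)⁻¹, S.mem_Tk_one.2 ⟨_, rfl⟩, ?_⟩
    rw [S.h_mul, mul_div_cancel, inv_div, ← mul_div_assoc, he, mul_div_cancel_left]
  · obtain ⟨e, he⟩ := Arc.σ_surj σ (c : F)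
    have he0 : e ≠ 0 := by
      rintro rfl
      rw [map_zero] at he
      exact c.ne_zero he.symm
    have he' : Units.map (σ : F →* F) (Units.mk0 e he0) = c := Units.ext he
    refine ⟨S.h c (Units.mk0 e he0), ?_, S.h 1 (d / Units.mk0 e he0), ?_, ?_⟩
    · rw [← he']
      exact S.h_mem_PL _
    · refine ⟨ht |> fun _ => S.mem_T.2 ⟨_, _, rfl⟩, Subgroup.mem_centralizer_iff.2 fun x hx => ?_⟩
      obtain ⟨p, u, rfl⟩ := S.X8 hx
      have h1 := S.h_e 1 (d / Units.mk0 e he0) 4 p u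
      rw [chE_four, inv_one, Units.val_one, map_one, one_mul, one_mul, one_mul, mul_inv_eq_iff_eq_mul] at h1
      exact h1.symm
    · rw [S.h_mul, mul_one, mul_div_cancel]

/-- **cuspidal characters of `Par i` are irreducible on `MM i`** -/
theorem irr_MM [Finite G] (i : Fin 2) {μ : ↥(Par S i) → ℂ} (hm : CuspP S i μ) :
    IsIrrCharacter ↥(MM S i) (μ ∘ Subgroup.inclusion (MM_le_Par i)) := by
  refine irr_res (Subgroup.inclusion (MM_le_Par i)) hm.irr ((S.Tk (kk i)).subgroupOf (Par S i))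
    ((Vr S i).subgroupOf (Par S i)) (fun g v hv => hm.triv g v hv) (fun z hz g => ?_) (fun g => ?_)
  · exact Tk_comm_mem i hz g.2
  · obtain ⟨g, hg⟩ := g
    have hg' := hg
    rw [Par_eq] at hg'
    obtain ⟨t, ht, m, hm, rfl⟩ := mem_sup_of_norm (A := S.T) (B := MM S i) (fun a ha b hb => T_MM i ha hb) hg'
    obtain ⟨m', hm', z, hz, e⟩ := T_split i ht
    refine ⟨⟨(t * m * t⁻¹) * m', mul_mem (T_MM i ht hm) hm'⟩, ⟨z, T_le_Par S i hz.1⟩, hz, ?_⟩
    apply Subtype.ext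
    show t * m = (t * m * t⁻¹) * m' * z
    rw [mul_assoc _ m' z, ← e, inv_mul_cancel_right]

end fin

variable [Finite F] (hF : ∃ c : Fˣ, c ≠ 1)

include hF

/-- multiplicity one for nondegenerate linear characters -/
theorem gg_nz [Fintype G] [Fintype ↥(UU S)] {ψ : ↥(UU S) →* ℂˣ} (h0 : Nz ψ 0) (h1 : Nz ψ 1) {χ : G → ℂ}
    (hχ : IsIrrCharacter G χ) :
    classInner (fun u : ↥(UU S) => χ u) (fun u : ↥(UU S) => (ψ u : ℂ)) = 0 ∨
      classInner (fun u : ↥(UU S) => χ u) (fun u : ↥(UU S) => (ψ u : ℂ)) = 1 := by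
  refine gelf (UU S).subtype ψ (sq_one hF ψ) (fun g => ?_) hχ
  obtain ⟨b, hb, n, hn, b', hb', e⟩ := H539.OF.bruhat S g
  exact ⟨⟨b, hb⟩, ⟨b', hb'⟩, n, e, compat hF h0 h1 hn⟩

/-- **multiplicity one for `G`** -/
theorem gg_one [Fintype G] [Fintype ↥(UU S)] {lam : Fin 2 → (↥(UU S) →* ℂˣ)} (hl : H40.OC.Lam (UU S) (DD S) lam)
    {χ : G → ℂ} (hχ : IsIrrCharacter G χ) :
    classInner (fun u : ↥(UU S) => χ u) (fun u : ↥(UU S) => (H40.OC.psi lam Finset.univ u : ℂ)) = 0 ∨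
      classInner (fun u : ↥(UU S) => χ u) (fun u : ↥(UU S) => (H40.OC.psi lam Finset.univ u : ℂ)) = 1 :=
  gg_nz hF (nz_psi hl 0) (nz_psi hl 1) hχ

/-! ### the parabolic subgroups -/

/-- the Bruhat decomposition of `MM 0` -/
theorem form_zero {ψ : ↥(UU S) →* ℂˣ} (h0 : Nz ψ 0) {g : G} (hg : g ∈ J S.XZ 1 9) : ∃ b ∈ UU S, ∃ b' ∈ UU S, ∃ n,
    g = b * n * b' ∧ (n * n = 1 ∨ ∃ a a' : ↥(UU S), (a : G) * n = n * a' ∧ ψ a ≠ ψ a') := by
  obtain ⟨b, hb, n, hn, b', hb', e⟩ := H539.OF.bruhat S g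
  have hn9 : n ∈ J S.XZ 1 9 := by
    have h1 : n = b⁻¹ * g * b'⁻¹ := by rw [e]; group
    rw [h1]
    exact mul_mem (mul_mem (inv_mem (J_mono le_rfl (by norm_num) hb)) hg) (inv_mem (J_mono le_rfl (by norm_num) hb'))
  have hT : ∀ c d : Fˣ, S.h c d ∈ J S.XZ 1 9 → d = c := by
    intro c d h
    have h1 := S.comm_five h (S.mX5 1)
    have h2 : S.h c d * S.o 2 1 * (S.h c d)⁻¹ ∈ S.XZ 5 := S.T_conj (S.mem_T.2 ⟨c, d, rfl⟩) 5 (S.mX5 1)
    have h3 := S.W46_inf h1 (mul_mem h2 (inv_mem (S.mX5 1)))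
    rw [mul_inv_eq_one, S.h_o, mul_one] at h3
    have h4 : (chO σ 2 c d : F) = 1 := S.injO 2 h3
    have h5 : Units.map (σ : F →* F) d / c * (d / Units.map (σ : F →* F) c) = 1 := Units.ext h4
    have h6 : (d / c) * Units.map (σ : F →* F) (d / c) = 1 := by
      rw [map_div, ← h5, div_mul_div_comm, div_mul_div_comm, mul_comm d]
    exact div_eq_one.1 (S.unit_eq_one h6)
  refine ⟨b, hb, b', hb', n, e, ?_⟩
  have hx1 : S.o 2 (1 : F) ≠ 1 := fun h => one_ne_zero (S.o_eq_one h)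
  rcases S.dih_five hn (y := S.o 2 1) (v := n * S.o 2 1 * n⁻¹ * (S.o 2 1)⁻¹) (x := S.o 2 1)
    (mem_J (S.mX5 1) (by norm_num) (by norm_num)) (S.comm_five hn9 (S.mX5 1)) (S.mX5 1) hx1
    (by rw [inv_mul_cancel_right]) with h | h
  · obtain ⟨c, d, rfl⟩ := S.mem_T.1 h
    have h1 := hT c d hn9
    subst h1
    by_cases hd : d = 1
    · left
      rw [hd, S.h_one, one_mul]
    · right
      exact compat_T hF (Or.inl ⟨h0, fun h => hd (unit_sq S h)⟩)
  · left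
    have hn1 : S.n1 ∈ J S.XZ 1 9 := S.LO_le_J S.n1_mem_LO
    obtain ⟨c, d, h1⟩ := S.mem_T.1 h
    have h2 := hT c d (by rw [h1]; exact mul_mem hn9 hn1)
    subst h2
    have h3 : n = S.h d d * S.n1 := by rw [h1, mul_assoc, S.n1_sq, mul_one]
    rw [h3]
    calc S.h d d * S.n1 * (S.h d d * S.n1) = S.h d d * (S.n1 * S.h d d * S.n1⁻¹) * (S.n1 * S.n1) := by group
      _ = 1 := by rw [Arc.n1_h, S.n1_sq, mul_one, S.h_mul, mul_inv_cancel, S.h_one]

/-- the Bruhat decomposition of `MM 1` -/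
theorem form_one {ψ : ↥(UU S) →* ℂˣ} (h1 : Nz ψ 1) {g : G} (hg : g ∈ S.PL) : ∃ b ∈ UU S, ∃ b' ∈ UU S, ∃ n,
    g = b * n * b' ∧ (n * n = 1 ∨ ∃ a a' : ↥(UU S), (a : G) * n = n * a' ∧ ψ a ≠ ψ a') := by
  have hz : S.e 2 0 1 ∈ S.Zc 2 := ⟨1, rfl⟩
  have hz1 : S.e 2 0 1 ≠ 1 := fun h => one_ne_zero (S.e_eq_one h).2
  have h2 : g * S.e 2 0 1 * g⁻¹ ∈ S.Zc 2 := by rw [S.comm_PL hg hz, mul_inv_cancel_right]; exact hz
  obtain ⟨b, hb, t, ht, e | ⟨b', hb', e⟩⟩ := S.form_of_conj hz hz1 h2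
  · refine ⟨b, hb, 1, one_mem _, t, by rw [e, mul_one], ?_⟩
    have htP : t ∈ S.PL := by
      have : t = b⁻¹ * g := by rw [e]; group
      rw [this]
      exact mul_mem (inv_mem (J_mono (by norm_num) le_rfl hb)) hg
    obtain ⟨c, d, rfl⟩ := S.mem_T.1 ht
    have h6 := S.comm_PL htP (z := S.e 2 0 1) ⟨1, rfl⟩
    have h7 := S.h_e c d 2 0 1
    rw [h6, mul_inv_cancel_right, mul_one] at h7
    have h8 : chE σ 2 c d = 1 := S.unit_eq_one (Units.ext (S.injE 2 _ _ _ _ h7).2.symm)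
    rw [chE_two, div_eq_one] at h8
    by_cases hc : c = 1
    · left
      have hd : d = 1 := by
        apply s2 S
        rw [h8, hc]
        have h9 : Units.map (σ : F →* F) d = 1 := h8.trans hc
        have h10 := Cfsg.Agent.KFacts.TwF4.map_map σ S.sq d
        rw [h9, map_one] at h10
        exact (unit_sq S (by rw [← pow_two]; exact h10.symm)).symm
      rw [hc, hd, S.h_one, one_mul]
    · right
      exact compat_T hF (Or.inr ⟨h1, hc⟩)
  · refine ⟨b, hb, b', hb', t * S.n2, e, Or.inl ?_⟩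
    have htP : t ∈ S.PL := by
      have : t = b⁻¹ * g * b'⁻¹ * S.n2⁻¹ := by rw [e]; group
      rw [this]
      exact mul_mem (mul_mem (mul_mem (inv_mem (J_mono (by norm_num) le_rfl hb)) hg)
        (inv_mem (J_mono (by norm_num) le_rfl hb'))) (inv_mem S.n2_mem)
    have h3 := S.n2_Tk (H743.AH.TwF.mem_T4_of_PL S ht htP)
    calc t * S.n2 * (t * S.n2) = t * (S.n2 * t * S.n2⁻¹) * (S.n2 * S.n2) := by group
      _ = 1 := by rw [h3, S.n2_sq, mul_one, mul_inv_cancel]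

/-- **multiplicity one for the cuspidal characters of `Par i`** -/
theorem gg_par [Finite G] [Fintype ↥(UU S)] {lam : Fin 2 → (↥(UU S) →* ℂˣ)} (hl : H40.OC.Lam (UU S) (DD S) lam)
    (i : Fin 2) {μ : ↥(Par S i) → ℂ} (hm : CuspP S i μ) :
    classInner (fun u : ↥(UU S) => μ ⟨u, U_le_Par S i u.2⟩) (fun u : ↥(UU S) => (lam i u : ℂ)) = 0 ∨
      classInner (fun u : ↥(UU S) => μ ⟨u, U_le_Par S i u.2⟩) (fun u : ↥(UU S) => (lam i u : ℂ)) = 1 := by
  classical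
  have : Fintype ↥(MM S i) := Fintype.ofFinite _
  have key0 := gelf (Subgroup.inclusion (U_le_MM (S := S) i)) (lam i) (sq_one hF (lam i)) (fun g => ?_) (irr_MM i hm)
  · exact key0
  have key : ∃ b ∈ UU S, ∃ b' ∈ UU S, ∃ n, (g : G) = b * n * b' ∧
      (n * n = 1 ∨ ∃ a a' : ↥(UU S), (a : G) * n = n * a' ∧ lam i a ≠ lam i a') := by
    have hg := g.2
    have hn := nz_lam hl i
    revert hg hn
    generalize (g : G) = g
    intro hg hn
    fin_cases i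
    · exact form_zero hF hn hg
    · exact form_one hF hn hg
  obtain ⟨b, hb, b', hb', n, e, h⟩ := key
  have hnM : n ∈ MM S i := by
    have h1 : n = b⁻¹ * g * b'⁻¹ := by rw [e]; group
    rw [h1]
    exact mul_mem (mul_mem (inv_mem (U_le_MM i hb)) g.2) (inv_mem (U_le_MM i hb'))
  refine ⟨⟨b, hb⟩, ⟨b', hb'⟩, ⟨n, hnM⟩, Subtype.ext e, ?_⟩
  rcases h with h | ⟨a, a', h1, h2⟩
  · exact Or.inl (Subtype.ext h)
  · exact Or.inr ⟨a, a', Subtype.ext h1, h2⟩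

end Cfsg.Agent.H978.OF
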