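import Cfsg.Agent.H539.OF.Defs
import Cfsg.Agent.H466.T3.Gelfand
import Cfsg.Agent.H148.GG.GGTwo

/-!
# S4884, own characteristic: the row `²F₄(Q)`: the longest element and the torus, compatible elements (helper978)

* `w0_sq`, `w0_h`, `w0_n1`, `w0_n2` : the longest element is an involution, inverts the torus, commutes with `n1`, `n2`;
* `z_one`, `sq_one` : linear characters of `U` have values `± 1`;
* `Nd ψ` : nondegenerate linear characters of `U`;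
* `compat` : a dihedral element compatible with `ψ` is an involution or `1`.
-/

set_option autoImplicit false
set_option linter.unusedSectionVars false

open scoped ComplexConjugate commutatorElement

namespace Cfsg.Agent.H978.OF

open Cfsg Cfsg.Agent.SplitTwo Cfsg.Agent.SplitTwo.ZS Cfsg.Agent.TitsThree.RankTwoZ Cfsg.Agent.KFacts.TwF4
open Cfsg.Agent.KFacts.TwF4.Full Cfsg.Agent.KFacts.TwF4.SylU Cfsg.Agent.KFacts.TwF4.Inv Cfsg.Agent.KFacts.TwF4.Arc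
open Cfsg.Agent.SplitTwo.RootSysZ Subgroup Cfsg.Agent.H539.OF

universe u

variable {F : Type*} [Field F] {σ : F →+* F} {G : Type u} [Group G] (S : Full σ G)

/-! ### the longest element -/

/-- an element of the torus fixing `e 0 1 0` and `e 1 1 0` is trivial -/
theorem eq_one_of {g : G} (hg : g ∈ S.T) (h0 : g * S.e 0 1 0 * g⁻¹ = S.e 0 1 0)
    (h1 : g * S.e 1 1 0 * g⁻¹ = S.e 1 1 0) : g = 1 := by
  rw [Arc.h_eq_of S (c := 1) (d := 1) hg (by simpa using h0) (by simpa using h1), S.h_one]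

theorem w0_maps : Maps S.R.X (w0 S) (fun j => 8 + j) :=
  (S.rot_maps 4).congr fun k => by
    have : ((2 * 4 : ℤ) : ZMod (2 * 8)) = 8 := by decide
    rw [this]

theorem w0_o (a : ZMod 8) (t : F) : w0 S * S.o a t * (w0 S)⁻¹ = S.o (a + 4) t := S.rotk_o 4 a t
theorem w0_e (a : ZMod 8) (p u : F) : w0 S * S.e a p u * (w0 S)⁻¹ = S.e (a + 4) p u := S.rotk_e 4 a p u

theorem w0_sq : w0 S * w0 S = 1 := by
  refine eq_one_of S ?_ ?_ ?_
  · show Maps S.R.X _ id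
    exact ((w0_maps S).mul (w0_maps S)).congr fun k => by
      simp only [Function.comp, id]
      rw [← add_assoc, show (8 : ZMod (2 * 8)) + 8 = 0 by decide, zero_add]
  · have e : w0 S * w0 S * S.e 0 1 0 * (w0 S * w0 S)⁻¹ = w0 S * (w0 S * S.e 0 1 0 * (w0 S)⁻¹) * (w0 S)⁻¹ := by group
    rw [e, w0_e, w0_e]
    rfl
  · have e : w0 S * w0 S * S.e 1 1 0 * (w0 S * w0 S)⁻¹ = w0 S * (w0 S * S.e 1 1 0 * (w0 S)⁻¹) * (w0 S)⁻¹ := by group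
    rw [e, w0_e, w0_e]
    rfl

theorem w0_inv : (w0 S)⁻¹ = w0 S := inv_eq_of_mul_eq_one_left (w0_sq S)

theorem w0_T {t : G} (ht : t ∈ S.T) : w0 S * t * (w0 S)⁻¹ ∈ S.T := by
  show Maps S.R.X (w0 S * t * (w0 S)⁻¹) id
  rw [w0_inv]
  exact (((w0_maps S).mul ht).mul (w0_maps S)).congr fun k => by
    simp only [Function.comp, id]
    rw [← add_assoc, show (8 : ZMod (2 * 8)) + 8 = 0 by decide, zero_add]

theorem w0_h (c d : Fˣ) : w0 S * S.h c d * (w0 S)⁻¹ = S.h c⁻¹ d⁻¹ := by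
  have key : ∀ a : ZMod 8, (w0 S * S.h c d * (w0 S)⁻¹) * S.e a 1 0 * (w0 S * S.h c d * (w0 S)⁻¹)⁻¹ =
      S.e a (chE σ (a + 4) c d) 0 := by
    intro a
    have e1 : (w0 S * S.h c d * (w0 S)⁻¹) * S.e a 1 0 * (w0 S * S.h c d * (w0 S)⁻¹)⁻¹ =
        w0 S * (S.h c d * ((w0 S)⁻¹ * S.e a 1 0 * w0 S) * (S.h c d)⁻¹) * (w0 S)⁻¹ := by group
    have e2 : (w0 S)⁻¹ * S.e a 1 0 * w0 S = S.e (a + 4) 1 0 := by
      have := w0_e S a 1 0
      rw [w0_inv S] at this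
      rw [w0_inv S]; exact this
    have e3 : a + 4 + 4 = a := by rw [add_assoc, show (4 : ZMod 8) + 4 = 0 by decide, add_zero]
    rw [e1, e2, S.h_e, w0_e, mul_one, mul_zero, e3]
  exact Arc.h_eq_of S (w0_T S (S.mem_T.2 ⟨c, d, rfl⟩)) (key 0) (key 1)

theorem w0_inv_T {t : G} (ht : t ∈ S.T) : w0 S * t * (w0 S)⁻¹ = t⁻¹ := by
  obtain ⟨c, d, rfl⟩ := S.mem_T.1 ht
  rw [w0_h, S.h_inv]

theorem w0_n1 : w0 S * S.n1 = S.n1 * w0 S := by
  have h1 : w0 S * S.n1 * (w0 S)⁻¹ * S.n1⁻¹ = 1 := by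
    refine eq_one_of S ?_ ?_ ?_
    · show Maps S.R.X _ id
      rw [w0_inv, Arc.n1_inv]
      exact ((((w0_maps S).mul S.n1_maps).mul (w0_maps S)).mul S.n1_maps).congr fun k => by
        simp only [Function.comp, id]
        ring
    all_goals
      have e : ∀ x : G, w0 S * S.n1 * (w0 S)⁻¹ * S.n1⁻¹ * x * (w0 S * S.n1 * (w0 S)⁻¹ * S.n1⁻¹)⁻¹ =
        w0 S * (S.n1 * (w0 S * (S.n1 * x * S.n1⁻¹) * (w0 S)⁻¹) * S.n1⁻¹) * (w0 S)⁻¹ := by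
        intro x
        rw [w0_inv, Arc.n1_inv]
        simp only [mul_inv_rev, w0_inv, Arc.n1_inv, mul_assoc]
      rw [e, S.n1_e, w0_e, S.n1_e, w0_e]
      rfl
  have h2 : w0 S * S.n1 * (w0 S)⁻¹ = S.n1 := mul_inv_eq_one.1 h1
  exact mul_inv_eq_iff_eq_mul.1 h2

theorem w0_n2 : w0 S * S.n2 = S.n2 * w0 S := by
  have h1 : w0 S * S.n2 * (w0 S)⁻¹ * S.n2⁻¹ = 1 := by
    refine eq_one_of S ?_ ?_ ?_
    · show Maps S.R.X _ id
      rw [w0_inv, Arc.n2_inv]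
      exact ((((w0_maps S).mul S.n2_maps).mul (w0_maps S)).mul S.n2_maps).congr fun k => by
        simp only [Function.comp, id]
        ring
    all_goals
      have e : ∀ x : G, w0 S * S.n2 * (w0 S)⁻¹ * S.n2⁻¹ * x * (w0 S * S.n2 * (w0 S)⁻¹ * S.n2⁻¹)⁻¹ =
        w0 S * (S.n2 * (w0 S * (S.n2 * x * S.n2⁻¹) * (w0 S)⁻¹) * S.n2⁻¹) * (w0 S)⁻¹ := by
        intro x
        rw [w0_inv, Arc.n2_inv]
        simp only [mul_inv_rev, w0_inv, Arc.n2_inv, mul_assoc]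
      rw [e, S.n2_e, w0_e, S.n2_e, w0_e]
      rfl
  have h2 : w0 S * S.n2 * (w0 S)⁻¹ = S.n2 := mul_inv_eq_one.1 h1
  exact mul_inv_eq_iff_eq_mul.1 h2

/-! ### linear characters of `U` -/

section lin

variable {S}

theorem e4_mem (p u : F) : S.e 4 p u ∈ UU S := mem_J (S.mX8 p u) (by norm_num) (by norm_num)
theorem o0_mem (t : F) : S.o 0 t ∈ UU S := mem_J (S.mX1 t) (by norm_num) (by norm_num)

theorem J27_le_U : J S.XZ 2 7 ≤ UU S := J_mono (by norm_num) (by norm_num)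

theorem one_of_comm (ψ : ↥(UU S) →* ℂˣ) {x : G} (hx : x ∈ ⁅UU S, UU S⁆) (hxU : x ∈ UU S) : ψ ⟨x, hxU⟩ = 1 := by
  have h1 : ⁅UU S, UU S⁆ ≤ ψ.ker.map (UU S).subtype := by
    rw [Subgroup.commutator_le]
    intro g hg h hh
    refine ⟨⁅(⟨g, hg⟩ : ↥(UU S)), ⟨h, hh⟩⁆, ?_, rfl⟩
    show ψ _ = 1
    rw [map_commutatorElement, commutatorElement_eq_one_iff_mul_comm, mul_comm]
  obtain ⟨y, hy, rfl⟩ := h1 hx
  exact hy

variable (hF : ∃ c : Fˣ, c ≠ 1)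

include hF

theorem one_J27 (ψ : ↥(UU S) →* ℂˣ) {u : ↥(UU S)} (hu : (u : G) ∈ J S.XZ 2 7) : ψ u = 1 :=
  one_of_comm ψ (Cfsg.Agent.H743.EP.TwF.J27_le S hF hu) u.2

theorem z_one [Finite F] (ψ : ↥(UU S) →* ℂˣ) (u : F) : ψ ⟨S.e 4 0 u, e4_mem 0 u⟩ = 1 := by
  have hm : ∀ p u q v : F, ψ ⟨S.e 4 p u, e4_mem p u⟩ * ψ ⟨S.e 4 q v, e4_mem q v⟩ =
      ψ ⟨S.e 4 (p + q) (u + v + p * σ q), e4_mem _ _⟩ := by
    intro p u q v
    rw [← map_mul]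
    congr 1
    exact Subtype.ext (S.e_mul 4 p u q v)
  have h1 : ∀ p q : F, ψ ⟨S.e 4 0 (p * σ q + q * σ p), e4_mem _ _⟩ = 1 := by
    intro p q
    have h2 := hm p 0 q 0
    have h3 := hm q 0 p 0
    rw [mul_comm, h2] at h3
    have h4 := hm (q + p) (0 + 0 + q * σ p) 0 (p * σ q + q * σ p)
    have h5 : (⟨S.e 4 (q + p + 0) (0 + 0 + q * σ p + (p * σ q + q * σ p) + (q + p) * σ 0), e4_mem _ _⟩ : ↥(UU S)) =
        ⟨S.e 4 (p + q) (0 + 0 + p * σ q), e4_mem _ _⟩ := by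
      apply Subtype.ext
      show S.e 4 _ _ = S.e 4 _ _
      rw [map_zero, mul_zero, add_zero, add_zero, add_comm q p]
      congr 1
      have h6 := char2 S (q * σ p)
      calc 0 + 0 + q * σ p + (p * σ q + q * σ p) = 0 + 0 + p * σ q + (q * σ p + q * σ p) := by ring
        _ = _ := by rw [h6, add_zero]
    rw [h5, h3] at h4
    exact mul_eq_left.1 h4
  by_cases hu : u = 0
  · have h2 : (⟨S.e 4 0 u, e4_mem 0 u⟩ : ↥(UU S)) = 1 := Subtype.ext (by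
      show S.e 4 0 u = 1
      rw [hu, S.e_zero])
    rw [h2, map_one]
  obtain ⟨c, hc⟩ := hF
  have hc' : (c : F) + σ (c : F) ≠ 0 := by
    intro h
    apply hc
    apply s2 S
    apply Units.ext
    show σ (c : F) = c
    have h2 := char2 S (c : F)
    exact (add_left_cancel (h2.trans h.symm)).symm
  obtain ⟨q, hq⟩ := s1_surj S (Units.mk0 (u / ((c : F) + σ (c : F))) (div_ne_zero hu hc'))
  have hq' : (q : F) * σ (q : F) = u / ((c : F) + σ (c : F)) := congrArg Units.val hq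
  have h3 := h1 ((q : F) * c) q
  have h4 : (q : F) * c * σ (q : F) + q * σ ((q : F) * c) = u := by
    rw [map_mul]
    calc (q : F) * c * σ (q : F) + q * (σ (q : F) * σ (c : F)) = ((q : F) * σ (q : F)) * (c + σ (c : F)) := by ring
      _ = u := by rw [hq', div_mul_cancel₀ _ hc']
  have h5 : (⟨S.e 4 0 ((q : F) * c * σ (q : F) + q * σ ((q : F) * c)), e4_mem _ _⟩ : ↥(UU S)) =
      ⟨S.e 4 0 u, e4_mem 0 u⟩ := Subtype.ext (by show S.e 4 0 _ = S.e 4 0 u; rw [h4])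
  rw [← h5]
  exact h3

/-- the linear characters of `U` have values `± 1` -/
theorem sq_one [Finite F] (ψ : ↥(UU S) →* ℂˣ) (u : ↥(UU S)) : ψ u * ψ u = 1 := by
  have h1 : UU S ≤ (ψ * ψ).ker.map (UU S).subtype := by
    refine J_le fun k h1 h2 x hx => ?_
    have hxU : x ∈ UU S := mem_J hx h1 h2
    refine ⟨⟨x, hxU⟩, ?_, rfl⟩
    show ψ ⟨x, hxU⟩ * ψ ⟨x, hxU⟩ = 1
    rcases eq_or_lt_of_le h1 with h3 | h3
    · obtain ⟨t, rfl⟩ := S.X1 (h3 ▸ hx)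
      rw [← map_mul]
      have h4 : (⟨S.o 0 t, hxU⟩ * ⟨S.o 0 t, hxU⟩ : ↥(UU S)) = 1 := Subtype.ext (by
        show S.o 0 t * S.o 0 t = 1
        rw [S.o_add, char2 S, S.o_zero])
      rw [h4, map_one]
    · rcases eq_or_lt_of_le h2 with h4 | h4
      · obtain ⟨p, u, rfl⟩ := S.X8 (h4 ▸ hx)
        rw [← map_mul]
        have h4 : (⟨S.e 4 p u, hxU⟩ * ⟨S.e 4 p u, hxU⟩ : ↥(UU S)) = ⟨S.e 4 0 (p * σ p), e4_mem _ _⟩ :=
          Subtype.ext (e_sq S 4 p u)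
        rw [h4, z_one hF]
      · rw [one_J27 hF ψ (u := ⟨x, hxU⟩) (mem_J hx (by omega) (by omega)), one_mul]
  obtain ⟨y, hy, e⟩ := h1 u.2
  have h2 : y = u := Subtype.ext e
  rw [h2] at hy
  exact hy

end lin

/-! ### dihedral elements -/

section dih

variable {S}

theorem rtn_mul {a b : G} {c d : ℤ} (ha : Rtn S c a) (hb : Rtn S d b) : Rtn S (d + c) (a * b) := by
  intro j x
  have e : a * b * x * (a * b)⁻¹ = a * (b * x * b⁻¹) * a⁻¹ := by group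
  rw [e, ← add_assoc, ← ha, ← hb]

theorem refl_mul {a b : G} {c d : ℤ} (ha : Refl S.XZ c a) (hb : Refl S.XZ d b) : Rtn S (c - d) (a * b) := by
  intro j x
  have e : a * b * x * (a * b)⁻¹ = a * (b * x * b⁻¹) * a⁻¹ := by group
  have e2 : j + (c - d) = c - (d - j) := by ring
  rw [e, e2, ← ha, ← hb]

theorem rtn_refl {a b : G} {c d : ℤ} (ha : Rtn S c a) (hb : Refl S.XZ d b) : Refl S.XZ (c + d) (a * b) := by
  intro j x
  have e : a * b * x * (a * b)⁻¹ = a * (b * x * b⁻¹) * a⁻¹ := by group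
  have e2 : c + d - j = d - j + c := by ring
  rw [e, e2, ← ha, ← hb]

theorem w0_rtn : Rtn S 8 (w0 S) := fun j x => (S.rotk_X 4 j (x := x)).symm

theorem T_of_rtn {n : G} (h : Rtn S 16 n) : n ∈ S.T := by
  intro k x
  have h1 := h (k.val : ℤ) x
  rw [XZ_add] at h1
  have hk : (((k.val : ℕ) : ℤ) : ZMod (2 * 8)) = k := by rw [Int.cast_natCast]; exact ZMod.natCast_zmod_val _
  have h2 : ∀ y : G, y ∈ S.XZ (k.val : ℤ) ↔ y ∈ S.R.X k := by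
    intro y
    show y ∈ S.R.X _ ↔ _
    rw [hk]
  rw [h2, h2] at h1
  exact h1.symm

theorem T_of_rtn0 {n : G} (h : Rtn S 0 n) : n ∈ S.T := T_of_rtn fun j x => by
  rw [XZ_add]
  have := h j x
  rwa [add_zero] at this

/-- moved simple root groups -/
theorem mv {ψ : ↥(UU S) →* ℂˣ} (h27 : ∀ u : ↥(UU S), (u : G) ∈ J S.XZ 2 7 → ψ u = 1) {n : G} {k : ℤ}
    (hk : ∃ b : ↥(UU S), (b : G) ∈ S.XZ k ∧ ψ b ≠ 1) (hn : ∀ x ∈ S.XZ k, n * x * n⁻¹ ∈ J S.XZ 2 7) :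
    ∃ a b : ↥(UU S), (a : G) * n = n * b ∧ ψ a ≠ ψ b := by
  obtain ⟨b, hb, hne⟩ := hk
  have h1 := hn _ hb
  refine ⟨⟨n * b * n⁻¹, J27_le_U h1⟩, b, by group, ?_⟩
  rw [h27 _ h1]
  exact hne.symm

end dih

/-! ### nondegenerate characters -/

section nd

variable {S}

/-- nondegenerate at the node `i` -/
def Nz (ψ : ↥(UU S) →* ℂˣ) (i : Fin 2) : Prop := ∃ b : ↥(UU S), (b : G) ∈ S.XZ (kk i) ∧ ψ b ≠ 1

theorem o_scal {ψ : ↥(UU S) →* ℂˣ} (h : Nz ψ 0) {c : F} (hc : c ≠ 1) :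
    ∃ t, ψ ⟨S.o 0 (c * t), o0_mem _⟩ ≠ ψ ⟨S.o 0 t, o0_mem t⟩ := by
  by_contra hcon
  push Not at hcon
  obtain ⟨⟨b, hbU⟩, hb, hne⟩ := h
  obtain ⟨s, rfl⟩ := S.X1 hb
  apply hne
  have hc' : c - 1 ≠ 0 := sub_ne_zero.2 hc
  have h1 := hcon (s / (c - 1))
  have h2 : (⟨S.o 0 (c * (s / (c - 1))), o0_mem _⟩ : ↥(UU S)) = ⟨S.o 0 s, hbU⟩ * ⟨S.o 0 (s / (c - 1)), o0_mem _⟩ := by
    apply Subtype.ext
    show S.o 0 _ = S.o 0 _ * S.o 0 _
    rw [S.o_add]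
    congr 1
    field_simp
    ring
  rw [h2, map_mul] at h1
  exact mul_eq_right.1 h1

variable (hF : ∃ c : Fˣ, c ≠ 1)

include hF

theorem e_eq [Finite F] (ψ : ↥(UU S) →* ℂˣ) (p u : F) : ψ ⟨S.e 4 p u, e4_mem p u⟩ = ψ ⟨S.e 4 p 0, e4_mem p 0⟩ := by
  have h1 : (⟨S.e 4 p u, e4_mem p u⟩ : ↥(UU S)) = ⟨S.e 4 p 0, e4_mem p 0⟩ * ⟨S.e 4 0 u, e4_mem 0 u⟩ := by
    apply Subtype.ext
    show S.e 4 _ _ = S.e 4 _ _ * S.e 4 _ _
    rw [S.e_mul, add_zero, zero_add, map_zero, mul_zero, add_zero]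
  rw [h1, map_mul, z_one hF, mul_one]

theorem e_add [Finite F] (ψ : ↥(UU S) →* ℂˣ) (p q : F) : ψ ⟨S.e 4 (p + q) 0, e4_mem _ 0⟩ =
    ψ ⟨S.e 4 p 0, e4_mem p 0⟩ * ψ ⟨S.e 4 q 0, e4_mem q 0⟩ := by
  rw [← map_mul, ← e_eq hF ψ (p + q) (0 + 0 + p * σ q)]
  congr 1
  exact Subtype.ext (S.e_mul 4 p 0 q 0).symm

theorem e_scal [Finite F] {ψ : ↥(UU S) →* ℂˣ} (h : Nz ψ 1) {c : F} (hc : c ≠ 1) :
    ∃ p, ∀ u v, ψ ⟨S.e 4 (c * p) u, e4_mem _ _⟩ ≠ ψ ⟨S.e 4 p v, e4_mem _ _⟩ := by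
  by_contra hcon
  push Not at hcon
  obtain ⟨⟨b, hbU⟩, hb, hne⟩ := h
  obtain ⟨s, u, rfl⟩ := S.X8 hb
  apply hne
  have hc' : c - 1 ≠ 0 := sub_ne_zero.2 hc
  obtain ⟨v, w, h1⟩ := hcon (s / (c - 1))
  rw [e_eq hF, e_eq hF ψ _ w] at h1
  have h2 : c * (s / (c - 1)) = s + s / (c - 1) := by
    field_simp
    ring
  have h3 : (⟨S.e 4 (c * (s / (c - 1))) 0, e4_mem _ _⟩ : ↥(UU S)) = ⟨S.e 4 (s + s / (c - 1)) 0, e4_mem _ _⟩ :=
    Subtype.ext (by show S.e 4 _ _ = S.e 4 _ _; rw [h2])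
  rw [h3, e_add hF] at h1
  rw [e_eq hF]
  exact mul_eq_right.1 h1

variable [Finite F]

theorem mvk {ψ : ↥(UU S) →* ℂˣ} {i : Fin 2} (h : Nz ψ i) {n : G}
    (hn : ∀ x ∈ S.XZ (kk i), n * x * n⁻¹ ∈ J S.XZ 2 7) : ∃ a b : ↥(UU S), (a : G) * n = n * b ∧ ψ a ≠ ψ b :=
  mv (fun _ hu => one_J27 hF ψ hu) h hn

/-- elements of the torus -/
theorem compat_T {ψ : ↥(UU S) →* ℂˣ} {c d : Fˣ} (h : (Nz ψ 0 ∧ c * d ≠ 1) ∨ (Nz ψ 1 ∧ c ≠ 1)) :
    ∃ a b : ↥(UU S), (a : G) * S.h c d = S.h c d * b ∧ ψ a ≠ ψ b := by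
  rcases h with ⟨h1, h2⟩ | ⟨h1, h2⟩
  · obtain ⟨t, ht⟩ := o_scal h1 (c := ((c * d : Fˣ) : F)) (fun h => h2 (Units.ext h))
    refine ⟨_, _, ?_, ht⟩
    show S.o 0 _ * S.h c d = S.h c d * S.o 0 t
    have := S.h_o c d 0 t
    exact (mul_inv_eq_iff_eq_mul.1 this).symm
  · obtain ⟨p, hp⟩ := e_scal hF h1 (c := ((c⁻¹ : Fˣ) : F)) (fun h => h2 (inv_eq_one.1 (Units.ext h)))
    refine ⟨⟨S.e 4 (((c⁻¹ : Fˣ) : F) * p) (((c⁻¹ : Fˣ) : F) * σ ((c⁻¹ : Fˣ) : F) * 0), e4_mem _ _⟩,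
      ⟨S.e 4 p 0, e4_mem _ _⟩, ?_, hp _ _⟩
    have := S.h_e c d 4 p 0
    rw [chE_four] at this
    exact (mul_inv_eq_iff_eq_mul.1 this).symm

/-- **compatible dihedral elements have square `1`** -/
theorem compat {ψ : ↥(UU S) →* ℂˣ} (h0 : Nz ψ 0) (h1 : Nz ψ 1) {n : G} (hn : S.IsDihE n) :
    n * n = 1 ∨ ∃ a b : ↥(UU S), (a : G) * n = n * b ∧ ψ a ≠ ψ b := by
  have m0 : ∀ k : ℤ, 2 ≤ k → k ≤ 7 → (∀ x ∈ S.XZ 1, n * x * n⁻¹ ∈ S.XZ k) →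
      ∃ a b : ↥(UU S), (a : G) * n = n * b ∧ ψ a ≠ ψ b := fun k h2 h3 h =>
    mvk hF h0 fun x hx => mem_J (h x hx) h2 h3
  have m1 : ∀ k : ℤ, 2 ≤ k → k ≤ 7 → (∀ x ∈ S.XZ 8, n * x * n⁻¹ ∈ S.XZ k) →
      ∃ a b : ↥(UU S), (a : G) * n = n * b ∧ ψ a ≠ ψ b := fun k h2 h3 h =>
    mvk hF h1 fun x hx => mem_J (h x hx) h2 h3
  obtain ⟨c, hc0, hc8, h | h⟩ := dih_cases S hn
  · obtain rfl | rfl | h3 | h3 : c = 0 ∨ c = 4 ∨ (1 ≤ c ∧ c ≤ 3) ∨ (5 ≤ c ∧ c ≤ 7) := by omega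
    · have hT : n ∈ S.T := T_of_rtn0 h
      obtain ⟨c, d, rfl⟩ := S.mem_T.1 hT
      by_cases h3 : c = 1
      · by_cases h4 : d = 1
        · left
          rw [h3, h4, S.h_one, one_mul]
        · right
          refine compat_T hF (Or.inl ⟨h0, ?_⟩)
          rw [h3, one_mul]
          exact h4
      · right
        exact compat_T hF (Or.inr ⟨h1, h3⟩)
    · left
      have hT : w0 S * n ∈ S.T := T_of_rtn (rtn_mul w0_rtn h)
      have h3 := w0_inv_T S hT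
      have e : n * n = (w0 S * (w0 S * n) * (w0 S)⁻¹) * (w0 S * n) := by
        rw [w0_inv]
        calc n * n = n * n := rfl
          _ = (w0 S * w0 S) * n * (w0 S * w0 S) * n := by rw [w0_sq, one_mul, mul_one]
          _ = _ := by group
      rw [e, h3, inv_mul_cancel]
    · right
      refine m0 (1 + 2 * c) (by omega) (by omega) fun x hx => (h 1 x).1 hx
    · right
      refine m1 (8 + 2 * c - 16) (by omega) (by omega) fun x hx => ?_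
      rw [← XZ_add, sub_add_cancel]
      exact (h 8 x).1 hx
  · obtain rfl | rfl | h3 | h3 : c = 0 ∨ c = 1 ∨ (2 ≤ c ∧ c ≤ 4) ∨ (5 ≤ c ∧ c ≤ 7) := by omega
    · have hT : (w0 S * S.n2) * n ∈ S.T := T_of_rtn (refl_mul (rtn_refl w0_rtn S.n2_refl) h)
      obtain ⟨c, d, e⟩ := S.mem_T.1 hT
      have hn : n = S.n2 * w0 S * S.h c d := by
        rw [e]
        calc n = S.n2 * (w0 S * w0 S) * S.n2 * n := by rw [w0_sq, mul_one, S.n2_sq, one_mul]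
          _ = _ := by group
      by_cases h3 : c = 1
      · left
        subst h3
        rw [hn]
        calc S.n2 * w0 S * S.h 1 d * (S.n2 * w0 S * S.h 1 d) =
            S.n2 * (w0 S * S.h 1 d * (w0 S)⁻¹) * S.n2⁻¹ * (S.n2 * (w0 S * S.n2) * w0 S) * S.h 1 d := by group
          _ = S.n2 * S.h 1⁻¹ d⁻¹ * S.n2⁻¹ * (S.n2 * (S.n2 * w0 S) * w0 S) * S.h 1 d := by rw [w0_h, w0_n2]
          _ = S.h 1⁻¹⁻¹ (d⁻¹ / Units.map (σ : F →* F) 1⁻¹) * ((S.n2 * S.n2) * (w0 S * w0 S)) * S.h 1 d := by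
            rw [S.n2_h]; group
          _ = 1 := by
            rw [S.n2_sq, w0_sq, one_mul, mul_one, inv_one, inv_one, map_one, div_one, S.h_mul, one_mul, inv_mul_cancel,
              S.h_one]
      · right
        obtain ⟨p, hp⟩ := e_scal hF h1 (c := ((c⁻¹ : Fˣ) : F)) (fun h => h3 (inv_eq_one.1 (Units.ext h)))
        refine ⟨⟨S.e 4 (((c⁻¹ : Fˣ) : F) * p) (((c⁻¹ : Fˣ) : F) * σ ((c⁻¹ : Fˣ) : F) * 0), e4_mem _ _⟩,
          ⟨S.e 4 p 0, e4_mem _ _⟩, ?_, hp _ _⟩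
        have h4 := S.h_e c d 4 p 0
        rw [chE_four] at h4
        show S.e 4 _ _ * n = n * S.e 4 p 0
        have h5 : n * S.e 4 p 0 * n⁻¹ = S.e 4 (((c⁻¹ : Fˣ) : F) * p) (((c⁻¹ : Fˣ) : F) * σ ((c⁻¹ : Fˣ) : F) * 0) := by
          calc n * S.e 4 p 0 * n⁻¹ = S.n2 * (w0 S * (S.h c d * S.e 4 p 0 * (S.h c d)⁻¹) * (w0 S)⁻¹) * S.n2⁻¹ := by
                rw [hn]; group
            _ = _ := by rw [h4, w0_e, S.n2_e]; rfl
        exact (mul_inv_eq_iff_eq_mul.1 h5).symm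
    · have hT : (w0 S * S.n1) * n ∈ S.T := T_of_rtn (refl_mul (rtn_refl w0_rtn S.n1_refl) h)
      obtain ⟨c, d, e⟩ := S.mem_T.1 hT
      have hn : n = S.n1 * w0 S * S.h c d := by
        rw [e]
        calc n = S.n1 * (w0 S * w0 S) * S.n1 * n := by rw [w0_sq, mul_one, S.n1_sq, one_mul]
          _ = _ := by group
      by_cases h3 : c * d = 1
      · left
        have hd : d = c⁻¹ := (inv_eq_of_mul_eq_one_right h3).symm
        subst hd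
        rw [hn]
        calc S.n1 * w0 S * S.h c c⁻¹ * (S.n1 * w0 S * S.h c c⁻¹) =
            S.n1 * (w0 S * S.h c c⁻¹ * (w0 S)⁻¹) * S.n1⁻¹ * (S.n1 * (w0 S * S.n1) * w0 S) * S.h c c⁻¹ := by group
          _ = S.n1 * S.h c⁻¹ c⁻¹⁻¹ * S.n1⁻¹ * (S.n1 * (S.n1 * w0 S) * w0 S) * S.h c c⁻¹ := by rw [w0_h, w0_n1]
          _ = S.h c⁻¹⁻¹⁻¹ c⁻¹⁻¹ * ((S.n1 * S.n1) * (w0 S * w0 S)) * S.h c c⁻¹ := by
            rw [Arc.n1_h]; group
          _ = 1 := by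
            rw [S.n1_sq, w0_sq, one_mul, mul_one, inv_inv, S.h_mul, inv_mul_cancel, inv_mul_cancel, S.h_one]
      · right
        obtain ⟨t, ht⟩ := o_scal h0 (c := ((c * d : Fˣ) : F)) (fun h => h3 (Units.ext h))
        refine ⟨_, _, ?_, ht⟩
        have h4 := S.h_o c d 0 t
        show S.o 0 _ * n = n * S.o 0 t
        have h5 : n * S.o 0 t * n⁻¹ = S.o 0 (((c * d : Fˣ) : F) * t) := by
          calc n * S.o 0 t * n⁻¹ = S.n1 * (w0 S * (S.h c d * S.o 0 t * (S.h c d)⁻¹) * (w0 S)⁻¹) * S.n1⁻¹ := by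
                rw [hn]; group
            _ = _ := by rw [h4, w0_o, S.n1_o]; rfl
        exact (mul_inv_eq_iff_eq_mul.1 h5).symm
    · right
      refine m0 (2 * c - 1) (by omega) (by omega) fun x hx => h.mem hx
    · right
      refine m1 (2 * c - 8) (by omega) (by omega) fun x hx => h.mem hx

end nd

end Cfsg.Agent.H978.OF
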